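import Cfsg.Agent.H695.Spor.Tool
import Cfsg.Agent.H690.Spor.ONRow
import Cfsg.Agent.H710.Spor.HNMix
import Cfsg.Agent.HN.Distinct
import Cfsg.Agent.FastGrp
import Cfsg.Agent.Prune
set_option linter.all false
prune_inst 0x7f00000000000000000000000000000000000000000000000000000000000000000000000000000000000000000000000000000000000000000000000000000000000000000000000000000000000000003fffffffffffffffffffffffffffbeffbdffffffff
open scoped Cfsg.Agent.FastGrp

-- part: H704/Spor49/Two
section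
/-!
# Rows of S4849 from two primes of defect zero (helper704)

* `exists_mixed`: if not all `p`-singular elements have order `p`, then some element of order divisible by `p`
  and prime to `q` has order different from `p`, except when the centralizers of the elements of order `p`
  have order `p * q`, which Sylow's theorem excludes in the examples;
* `row49_of_two`: the row.
-/

set_option autoImplicit false

namespace Cfsg.Agent.H704.Spor49

open Cfsg Cfsg.Agent.H695 Cfsg.Agent.H713 Cfsg.Agent.H713.Count Cfsg.Agent.H665.NoPQ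

variable {S : Type*} [Group S]

/-- If not all `p`-singular elements have order `p`. -/
theorem exists_mixed [Finite S] {p q : ℕ} [hp : Fact p.Prime] [hq : Fact q.Prime] (hpq : p ≠ q)
    (hGp : (Nat.card S).factorization p = 1) (hGq : (Nat.card S).factorization q = 1)
    (hniso : ∃ y : S, p ∣ orderOf y ∧ orderOf y ≠ p)
    (hne : ∀ e, e ∣ p - 1 → ¬ e * q ≡ Nat.card S / p [MOD p]) :
    ∃ z : S, p ∣ orderOf z ∧ ¬ q ∣ orderOf z ∧ (orderOf z).primeFactors ≠ {p} := by
  classical
  by_contra hcon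
  push Not at hcon
  obtain ⟨y, hy, hyp⟩ := hniso
  obtain ⟨k, hk⟩ := hy
  have hk0 : 0 < k := by
    rcases Nat.eq_zero_or_pos k with h | h
    · exfalso
      rw [h, mul_zero] at hk
      exact (orderOf_pos y).ne' hk
    · exact h
  set x := y ^ k with hx
  have hxo : orderOf x = p := by
    rw [hx, orderOf_pow, hk, Nat.gcd_eq_right (Dvd.intro_left p rfl), Nat.mul_div_cancel _ hk0]
  have hp0 := hp.out.pos
  -- all primes dividing the order of the centralizer are `p` and `q`
  have hprime : ∀ r : ℕ, r.Prime → r ∣ Nat.card (Subgroup.centralizer ({x} : Set S)) → r = p ∨ r = q := by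
    intro r hr hrd
    by_contra hno
    push Not at hno
    have : Fact r.Prime := ⟨hr⟩
    obtain ⟨⟨w, hw⟩, hwo⟩ := exists_prime_orderOf_dvd_card' r hrd
    rw [Subgroup.orderOf_mk] at hwo
    have hcomm : Commute x w := (Subgroup.mem_centralizer_singleton_iff.1 hw).symm
    have hco : (orderOf x).Coprime (orderOf w) := by
      rw [hxo, hwo]
      exact (Nat.coprime_primes hp.out hr).2 (Ne.symm hno.1)
    have ho : orderOf (x * w) = p * r := by
      rw [hcomm.orderOf_mul_eq_mul_orderOf_of_coprime hco, hxo, hwo]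
    have h1 := hcon (x * w) (by rw [ho]; exact dvd_mul_right p r) (by
      rw [ho, hq.out.dvd_mul, Nat.prime_dvd_prime_iff_eq hq.out hp.out, Nat.prime_dvd_prime_iff_eq hq.out hr]
      rintro (h | h)
      · exact hpq h.symm
      · exact hno.2 h.symm)
    have h2 : r ∈ (orderOf (x * w)).primeFactors :=
      Nat.mem_primeFactors.2 ⟨hr, by rw [ho]; exact dvd_mul_left r p, (orderOf_pos _).ne'⟩
    rw [h1, Finset.mem_singleton] at h2
    exact hno.1 h2
  set C := Subgroup.centralizer ({x} : Set S) with hC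
  have hCS : Nat.card C ∣ Nat.card S := Subgroup.card_subgroup_dvd_card C
  have hC0 : Nat.card C ≠ 0 := Nat.card_pos.ne'
  have hfac : ∀ r, (Nat.card C).factorization r ≤ (Nat.card S).factorization r := fun r =>
    (Nat.factorization_le_iff_dvd hC0 Nat.card_pos.ne').2 hCS r
  have hxC : x ∈ C := Subgroup.mem_centralizer_singleton_iff.2 rfl
  have hyC : y ∈ C := Subgroup.mem_centralizer_singleton_iff.2 (by rw [hx, ← pow_succ, ← pow_succ'])
  have hpC : p ∣ Nat.card C := by
    rw [← hxo, ← Subgroup.orderOf_mk x hxC]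
    exact orderOf_dvd_natCard _
  obtain ⟨c, hc⟩ := hpC
  -- `c` is `1` or `q`
  have hc0 : c ≠ 0 := by
    rintro rfl
    rw [mul_zero] at hc
    exact hC0 hc
  have hcp : ¬ p ∣ c := by
    intro h
    have h1 : p ^ 2 ∣ Nat.card C := by rw [hc, pow_two]; exact Nat.mul_dvd_mul_left p h
    have h2 := (hp.out.pow_dvd_iff_le_factorization hC0).1 h1
    have h3 := hfac p
    omega
  have hcq : ∀ r : ℕ, r.Prime → r ∣ c → r = q := by
    intro r hr hrc
    rcases hprime r hr (by rw [hc]; exact hrc.mul_left p) with h | h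
    · exact absurd (h ▸ hrc) hcp
    · exact h
  have hc' : c = 1 ∨ c = q := by
    have h1 : c = q ^ (c.primeFactorsList.length) := Nat.eq_prime_pow_of_unique_prime_dvd hc0 (fun {r} hr hrc => hcq r hr hrc)
    have h2 : c.primeFactorsList.length < 2 := by
      by_contra h
      have h3 : q ^ 2 ∣ Nat.card C := by
        rw [hc]
        refine Dvd.dvd.mul_left ?_ p
        rw [h1]
        exact pow_dvd_pow q (by omega)
      have h4 := (hq.out.pow_dvd_iff_le_factorization hC0).1 h3
      have h5 := hfac q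
      omega
    generalize c.primeFactorsList.length = n at h1 h2
    rcases (show n = 0 ∨ n = 1 by omega) with rfl | rfl
    · left; rw [h1, pow_zero]
    · right; rw [h1, pow_one]
  rcases hc' with hc1 | hc1
  · -- the element `y` would have order `p`
    apply hyp
    have h1 : orderOf y ∣ p := by
      have : orderOf (⟨y, hyC⟩ : C) ∣ Nat.card C := orderOf_dvd_natCard _
      rwa [Subgroup.orderOf_mk, hc, hc1, mul_one] at this
    rcases (Nat.dvd_prime hp.out).1 h1 with h2 | h2
    · exfalso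
      rw [hk] at h2
      have := Nat.eq_one_of_mul_eq_one_right h2
      exact hp.out.one_lt.ne' this
    · exact h2
  · -- Sylow
    have h1 := card_fus_mul hGp hxo hc
    rw [hc1] at h1
    refine hne _ ?_ h1
    rw [← card_fus_mul_card_sing (p := p) (x := x) (by rw [← hxo]; exact pow_orderOf_eq_one x)]
    exact dvd_mul_right _ _

/-- **The row from two primes.** -/
theorem row49_of_two [Finite S] [IsSimpleGroup S] (hna : ∃ a b : S, a * b ≠ b * a) {p q : ℕ} [hp : Fact p.Prime]
    [hq : Fact q.Prime] (hpq : p ≠ q) (hGp : (Nat.card S).factorization p = 1)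
    (hGq : (Nat.card S).factorization q = 1)
    (hout : ((MulAut.conj : S →* MulAut S).range).index ∣ 2) (hdp : HasDZ p S) (hdq : HasDZ q S)
    (hnep : ∀ e, e ∣ p - 1 → ¬ e * q ≡ Nat.card S / p [MOD p])
    (hneq : ∀ e, e ∣ q - 1 → ¬ e * p ≡ Nat.card S / q [MOD q]) : Row49 S := by
  by_cases hip : ∀ y : S, p ∣ orderOf y → orderOf y = p
  · exact (Third.tri hna hpq hGp hGq hip hout hdp hdq).row49
  by_cases hiq : ∀ y : S, q ∣ orderOf y → orderOf y = q
  · exact (Third.tri hna (Ne.symm hpq) hGq hGp hiq hout hdq hdp).row49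
  push Not at hip hiq
  obtain ⟨z, hz, hzq, hzf⟩ := exists_mixed hpq hGp hGq hip hnep
  obtain ⟨w, hw, hwp, hwf⟩ := exists_mixed (Ne.symm hpq) hGq hGp hiq hneq
  have dvd : ∀ r : ℕ, (Nat.card S).factorization r = 1 → r ∣ Nat.card S := fun r hr => by
    have := Nat.ordProj_dvd (Nat.card S) r
    rwa [hr, pow_one] at this
  obtain ⟨x, hx⟩ := exists_prime_orderOf_dvd_card' p (dvd p hGp)
  obtain ⟨y, hy⟩ := exists_prime_orderOf_dvd_card' q (dvd q hGq)
  have vx : VZ S x := HasDZ.vz hdp (by rw [hx])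
  have vy : VZ S y := HasDZ.vz hdq (by rw [hy])
  have vz : VZ S z := HasDZ.vz hdp hz
  have vw : VZ S w := HasDZ.vz hdq hw
  intro l hl
  by_cases hlp : l = p
  · subst hlp
    refine ⟨y, w, vy, vw, ?_, hwp, ?_⟩
    · rw [hy, Nat.prime_dvd_prime_iff_eq hl hq.out]; exact hpq
    · rw [hy, hq.out.primeFactors]; exact fun h => hwf h.symm
  by_cases hlq : l = q
  · subst hlq
    refine ⟨x, z, vx, vz, ?_, hzq, ?_⟩
    · rw [hx, Nat.prime_dvd_prime_iff_eq hl hp.out]; exact fun h => hpq h.symm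
    · rw [hx, hp.out.primeFactors]; exact fun h => hzf h.symm
  · refine ⟨x, y, vx, vy, ?_, ?_, ?_⟩
    · rw [hx, Nat.prime_dvd_prime_iff_eq hl hp.out]; exact hlp
    · rw [hy, Nat.prime_dvd_prime_iff_eq hl hq.out]; exact hlq
    · rw [hx, hy, hp.out.primeFactors, hq.out.primeFactors]
      exact fun h => hpq (Finset.singleton_injective h)

/-- If not all `p`-singular elements have order `p` and no element has order `p * q`. -/
theorem exists_mixed' [Finite S] {p q : ℕ} (hp : p.Prime) (hq : q.Prime) (hpq : p ≠ q)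
    (hGp : (Nat.card S).factorization p = 1) (hniso : ∃ y : S, p ∣ orderOf y ∧ orderOf y ≠ p)
    (hne : ∀ z : S, orderOf z ≠ p * q) :
    ∃ z : S, p ∣ orderOf z ∧ ¬ q ∣ orderOf z ∧ (orderOf z).primeFactors ≠ {p} := by
  obtain ⟨y, hy, hyp⟩ := hniso
  have hy0 := orderOf_pos y
  obtain ⟨k, hk⟩ := hy
  have hk1 : k ≠ 1 := by
    rintro rfl
    rw [mul_one] at hk
    exact hyp hk
  obtain ⟨r, hr, j, hj⟩ := Nat.exists_prime_and_dvd hk1
  have hrp : r ≠ p := by
    rintro rfl
    have h1 : r ^ 2 ∣ Nat.card S := by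
      refine Dvd.dvd.trans ?_ (orderOf_dvd_natCard y)
      rw [hk, hj, ← mul_assoc, ← pow_two]
      exact dvd_mul_right _ _
    have h2 := (hr.pow_dvd_iff_le_factorization Nat.card_pos.ne').1 h1
    omega
  have hjo : orderOf y = p * r * j := by rw [hk, hj, mul_assoc]
  have hj0 : j ≠ 0 := by
    rintro rfl
    rw [mul_zero] at hjo
    omega
  have ho : orderOf (y ^ j) = p * r := by
    rw [orderOf_pow, hjo, Nat.gcd_eq_right (dvd_mul_left j (p * r)), Nat.mul_div_cancel _ (Nat.pos_of_ne_zero hj0)]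
  have hrq : r ≠ q := by
    rintro rfl
    exact hne _ ho
  refine ⟨y ^ j, by rw [ho]; exact dvd_mul_right p r, ?_, ?_⟩
  · rw [ho, hq.dvd_mul, Nat.prime_dvd_prime_iff_eq hq hp, Nat.prime_dvd_prime_iff_eq hq hr]
    rintro (h | h)
    · exact hpq h.symm
    · exact hrq h.symm
  · intro h
    have h2 : r ∈ (orderOf (y ^ j)).primeFactors :=
      Nat.mem_primeFactors.2 ⟨hr, by rw [ho]; exact dvd_mul_left r p, (orderOf_pos _).ne'⟩
    rw [h, Finset.mem_singleton] at h2
    exact hrp h2

/-- **The row from two primes** when no element has order `p * q`. -/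
theorem row49_of_two' [Finite S] [IsSimpleGroup S] (hna : ∃ a b : S, a * b ≠ b * a) {p q : ℕ} [hp : Fact p.Prime]
    [hq : Fact q.Prime] (hpq : p ≠ q) (hGp : (Nat.card S).factorization p = 1)
    (hGq : (Nat.card S).factorization q = 1)
    (hout : ((MulAut.conj : S →* MulAut S).range).index ∣ 2) (hdp : HasDZ p S) (hdq : HasDZ q S)
    (hne : ∀ z : S, orderOf z ≠ p * q) : Row49 S := by
  by_cases hip : ∀ y : S, p ∣ orderOf y → orderOf y = p
  · exact (Third.tri hna hpq hGp hGq hip hout hdp hdq).row49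
  by_cases hiq : ∀ y : S, q ∣ orderOf y → orderOf y = q
  · exact (Third.tri hna (Ne.symm hpq) hGq hGp hiq hout hdq hdp).row49
  push Not at hip hiq
  obtain ⟨z, hz, hzq, hzf⟩ := exists_mixed' hp.out hq.out hpq hGp hip hne
  obtain ⟨w, hw, hwp, hwf⟩ := exists_mixed' hq.out hp.out (Ne.symm hpq) hGq hiq (fun z hz =>
    hne z (by rw [hz, mul_comm]))
  have dvd : ∀ r : ℕ, (Nat.card S).factorization r = 1 → r ∣ Nat.card S := fun r hr => by
    have := Nat.ordProj_dvd (Nat.card S) r
    rwa [hr, pow_one] at this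
  obtain ⟨x, hx⟩ := exists_prime_orderOf_dvd_card' p (dvd p hGp)
  obtain ⟨y, hy⟩ := exists_prime_orderOf_dvd_card' q (dvd q hGq)
  have vx : VZ S x := HasDZ.vz hdp (by rw [hx])
  have vy : VZ S y := HasDZ.vz hdq (by rw [hy])
  have vz : VZ S z := HasDZ.vz hdp hz
  have vw : VZ S w := HasDZ.vz hdq hw
  intro l hl
  by_cases hlp : l = p
  · subst hlp
    refine ⟨y, w, vy, vw, ?_, hwp, ?_⟩
    · rw [hy, Nat.prime_dvd_prime_iff_eq hl hq.out]; exact hpq
    · rw [hy, hq.out.primeFactors]; exact fun h => hwf h.symm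
  by_cases hlq : l = q
  · subst hlq
    refine ⟨x, z, vx, vz, ?_, hzq, ?_⟩
    · rw [hx, Nat.prime_dvd_prime_iff_eq hl hp.out]; exact fun h => hpq h.symm
    · rw [hx, hp.out.primeFactors]; exact fun h => hzf h.symm
  · refine ⟨x, y, vx, vy, ?_, ?_, ?_⟩
    · rw [hx, Nat.prime_dvd_prime_iff_eq hl hp.out]; exact hlp
    · rw [hy, Nat.prime_dvd_prime_iff_eq hl hq.out]; exact hlq
    · rw [hx, hy, hp.out.primeFactors, hq.out.primeFactors]
      exact fun h => hpq (Finset.singleton_injective h)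

end Cfsg.Agent.H704.Spor49
end

-- part: H704/Spor49/ONan
section
/-!
# The row of `O'N` for S4849 (helper704)
-/

set_option autoImplicit false

namespace Cfsg.Agent.H704.Spor49

open Cfsg Cfsg.Agent.H695 Cfsg.Agent.H713 Cfsg.Agent.H665.NoPQ Cfsg.Agent.H695.Spor.Tool

theorem nonabelian_of_primes {S : Type*} [Group S] [Finite S] [IsSimpleGroup S] {p q : ℕ} (hp : p.Prime)
    (hq : q.Prime) (hpq : p ≠ q) (h1 : p ∣ Nat.card S) (h2 : q ∣ Nat.card S) : ∃ a b : S, a * b ≠ b * a := by
  by_contra hcon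
  push Not at hcon
  let _ : CommGroup S := { (inferInstance : Group S) with mul_comm := hcon }
  have hpr : (Nat.card S).Prime := IsSimpleGroup.prime_card
  exact hpq (((Nat.prime_dvd_prime_iff_eq hp hpr).1 h1).trans ((Nat.prime_dvd_prime_iff_eq hq hpr).1 h2).symm)

theorem arith_on_19 : ∀ e, e ∣ 19 - 1 → ¬ e * 11 ≡ 460815505920 / 19 [MOD 19] := by
  intro e he
  have h : e ∈ Nat.divisors 18 := Nat.mem_divisors.2 ⟨he, by norm_num⟩
  have key : ∀ e ∈ Nat.divisors 18, ¬ e * 11 ≡ 460815505920 / 19 [MOD 19] := by decide +kernel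
  exact key e h

theorem arith_on_11 : ∀ e, e ∣ 11 - 1 → ¬ e * 19 ≡ 460815505920 / 11 [MOD 11] := by
  intro e he
  have h : e ∈ Nat.divisors 10 := Nat.mem_divisors.2 ⟨he, by norm_num⟩
  have key : ∀ e ∈ Nat.divisors 10, ¬ e * 19 ≡ 460815505920 / 11 [MOD 11] := by decide +kernel
  exact key e h

theorem row49_on {K : Type*} [Group K] (h : Cfsg.Spor.IsoON K) : Row49 K := by
  obtain ⟨e⟩ := h
  refine Row49.mulEquiv ?_ e.symm
  have : Fact (Nat.Prime 19) := ⟨by norm_num⟩
  have : Fact (Nat.Prime 11) := ⟨by norm_num⟩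
  have := H690.Spor.ONRow.instFiniteON
  have : IsSimpleGroup Spor.ON := Cfsg.Agent.KFacts.ON.OneClass.hs
  have hc : Nat.card Spor.ON = 460815505920 := H690.Spor.ONRow.card_ON
  refine row49_of_two (p := 19) (q := 11)
    (nonabelian_of_primes (p := 19) (q := 11) (by norm_num) (by norm_num) (by norm_num)
      (by rw [hc]; norm_num) (by rw [hc]; norm_num)) (by norm_num)
    (by rw [hc]; exact factorization_eq_one (by norm_num) (by norm_num))
    (by rw [hc]; exact factorization_eq_one (by norm_num) (by norm_num))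
    (index_of_out (by rw [Cfsg.Agent.S2078.result]))
    (H690.Spor.ONRow.hasDZ ⟨MulEquiv.refl _⟩ (Or.inr rfl)) (H690.Spor.ONRow.hasDZ ⟨MulEquiv.refl _⟩ (Or.inl rfl))
    ?_ ?_
  · rw [hc]; exact arith_on_19
  · rw [hc]; exact arith_on_11

end Cfsg.Agent.H704.Spor49
end

-- part: H704/Spor49/Harada
section
/-!
# The row of `HN` for S4849 (helper704)

An element of order 11 of `HN` has centralizer of order 22: it fixes exactly one coset of `H = 2.HS.2`, since the
lengths of the non-trivial suborbits are divisible by 11. Hence there is a character of 11-defect zero, and no element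
has order 209.
-/

set_option autoImplicit false
set_option maxRecDepth 100000

namespace Cfsg.Agent.H704.Spor49.Harada

open Cfsg Subgroup Cfsg.Agent.H713 Cfsg.Agent.H665.NoPQ Cfsg.Agent.H713.Count
open Cfsg.Agent.HN.Pres Cfsg.Agent.HN.H0Basic Cfsg.Agent.H710.Spor.HNMix
open Cfsg.Agent.HN.NormalH (H) 
open Cfsg.Agent.HN.DCover (w9)
open Cfsg.Agent.HN.Index (balance kk)
open Cfsg.Agent.HN.Count (sz pnt)

/-- The lengths of the suborbits are divisible by 11. -/
theorem dvd_sz (i : Fin 9) (hi : i ≠ 0) : 11 ∣ sz H (w9 i) := by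
  have hdis := Cfsg.Agent.HN.Distinct.hdis
  have s0 : sz H (w9 0) = 1 := by rw [Cfsg.Agent.HN.Index.w9_zero]; exact Cfsg.Agent.HN.Count.sz_one H
  have s1 : sz H (w9 0) * 1408 = sz H (w9 1) * 1 := balance hdis 0 1
  have s2 : sz H (w9 1) * 50 = sz H (w9 2) * 32 := balance hdis 1 2
  have s3 : sz H (w9 1) * 450 = sz H (w9 3) * 18 := balance hdis 1 3
  have s4 : sz H (w9 1) * 350 = sz H (w9 4) * 4 := balance hdis 1 4
  have s5 : sz H (w9 1) * 504 = sz H (w9 5) * 2 := balance hdis 1 5
  have s6 : sz H (w9 2) * 672 = sz H (w9 6) * 2 := balance hdis 2 6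
  have s7 : sz H (w9 6) * 10 = sz H (w9 7) * 1280 := balance hdis 6 7
  have s8 : sz H (w9 6) * 240 = sz H (w9 8) * 640 := balance hdis 6 8
  fin_cases i
  · exact absurd rfl hi
  · show 11 ∣ sz H (w9 1)
    omega
  · show 11 ∣ sz H (w9 2)
    omega
  · show 11 ∣ sz H (w9 3)
    omega
  · show 11 ∣ sz H (w9 4)
    omega
  · show 11 ∣ sz H (w9 5)
    omega
  · show 11 ∣ sz H (w9 6)
    omega
  · show 11 ∣ sz H (w9 7)
    omega
  · show 11 ∣ sz H (w9 8)
    omega

theorem card_H : Nat.card H = 177408000 := Cfsg.Agent.HN.Index.card_H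

/-- An element of order 11 of `H` is in no other conjugate of `H`. -/
theorem mem_H_of_conj {x g : Cfsg.Spor.HN} (hx : orderOf x = 11) (hxH : x ∈ H) (hg : g⁻¹ * x * g ∈ H) : g ∈ H := by
  have hfinG := Cfsg.Agent.H710.Spor.HN.finite_hn
  have hfin : Finite H := inferInstance
  obtain ⟨i, hi⟩ := Cfsg.Agent.HN.Index.covers g⁻¹
  have hor := (Cfsg.Agent.HN.Count.mem_orbit_iff' (H := H) g⁻¹ (w9 i)).2 hi
  by_cases h0 : i = 0
  · subst h0
    rw [Cfsg.Agent.HN.Index.w9_zero, DoubleCoset.mem_doubleCoset] at hi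
    obtain ⟨a, ha, b, hb, hab⟩ := hi
    have h1 : g⁻¹ ∈ H := by
      rw [hab, mul_one]
      exact H.mul_mem ha hb
    exact inv_mem_iff.1 h1
  · exfalso
    -- the point is fixed by `x`
    have hd := dvd_sz i h0
    set q : Cfsg.Spor.HN ⧸ H := pnt H g⁻¹ with hq
    have hqo : Nat.card (MulAction.orbit H q) = sz H (w9 i) := by
      rw [sz, MulAction.orbit_eq_iff.2 hor]
    have hst : Nat.card (MulAction.orbit H q) * Nat.card (MulAction.stabilizer H q) = Nat.card H := by
      rw [Nat.card_congr (MulAction.orbitEquivQuotientStabilizer H q)]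
      exact (Subgroup.card_eq_card_quotient_mul_card_subgroup _).symm
    have hxs : (⟨x, hxH⟩ : H) ∈ MulAction.stabilizer H q := by
      rw [MulAction.mem_stabilizer_iff]
      change ((x * (g⁻¹)⁻¹ : Cfsg.Spor.HN) : Cfsg.Spor.HN ⧸ H) = (((g⁻¹)⁻¹ : Cfsg.Spor.HN) : Cfsg.Spor.HN ⧸ H)
      rw [QuotientGroup.eq, inv_inv]
      have h1 : (x * g)⁻¹ * g = (g⁻¹ * x * g)⁻¹ := by group
      rw [h1]
      exact H.inv_mem hg
    have h11 : 11 ∣ Nat.card (MulAction.stabilizer H q) := by
      have h2 : orderOf (⟨⟨x, hxH⟩, hxs⟩ : MulAction.stabilizer H q) = 11 := by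
        rw [Subgroup.orderOf_mk, Subgroup.orderOf_mk, hx]
      rw [← h2]
      exact orderOf_dvd_natCard _
    rw [hqo, card_H] at hst
    obtain ⟨a, ha⟩ := hd
    obtain ⟨b, hb⟩ := h11
    rw [ha, hb] at hst
    have h3 : 121 ∣ 177408000 := ⟨a * b, by rw [← hst]; ring⟩
    revert h3
    norm_num

theorem mem_H_iff {x : Cfsg.Spor.HN} : x ∈ H ↔ ∃ u, ψ u = x := by
  rw [← Cfsg.Agent.HN.NormalH.range_ψ]
  exact Iff.rfl

/-- The centralizer of the element of order 11. -/
theorem card_cent : Nat.card (centralizer ({ψ xx} : Set Cfsg.Spor.HN)) = 2 * 11 := by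
  have hfinG := Cfsg.Agent.H710.Spor.HN.finite_hn
  refine le_antisymm ?_ ?_
  · have hf : ∀ g : centralizer ({ψ xx} : Set Cfsg.Spor.HN), ∃ i : Fin 11 × Bool,
        (g : Cfsg.Spor.HN) = ψ (xx ^ (i.1 : ℕ) * (if i.2 then τ else 1)) := by
      rintro ⟨g, hg⟩
      have hg1 : g * ψ xx = ψ xx * g := mem_centralizer_singleton_iff.1 hg
      have hxH : ψ xx ∈ H := mem_H_iff.2 ⟨_, rfl⟩
      have h2 : g⁻¹ * ψ xx * g = ψ xx := by rw [mul_assoc, ← hg1, inv_mul_cancel_left]
      have h3 := mem_H_of_conj orderOf_ψx hxH (by rw [h2]; exact hxH)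
      obtain ⟨u, rfl⟩ := mem_H_iff.1 h3
      have h4 : u * xx = xx * u := by
        apply ψ_inj
        rw [map_mul, map_mul]
        exact hg1
      obtain ⟨k, hk, h8 | h8⟩ := Cfsg.Agent.H710.Spor.HNCent.mem_of_comm h4
      · exact ⟨(⟨k, hk⟩, false), (congrArg ψ h8).trans (by simp)⟩
      · exact ⟨(⟨k, hk⟩, true), (congrArg ψ h8).trans (by simp)⟩
    choose f hf using hf
    have hinj : Function.Injective f := fun a b hab => Subtype.ext (by rw [hf a, hf b, hab])
    have h := Nat.card_le_card_of_injective f hinj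
    simpa using h
  · refine Nat.le_of_dvd Nat.card_pos ?_
    have ho : orderOf (ψ xx * ψ τ) = 2 * 11 :=
      Cfsg.Agent.H710.TwoP.orderOf_xt (p := 11) (by norm_num) orderOf_ψx orderOf_ψτ comm_xτ
    have hm : ψ xx * ψ τ ∈ centralizer ({ψ xx} : Set Cfsg.Spor.HN) := by
      rw [mem_centralizer_singleton_iff, mul_assoc, comm_xτ.eq]
    rw [← ho, ← Subgroup.orderOf_mk _ hm]
    exact orderOf_dvd_natCard _

open Cfsg.Agent.H695 Cfsg.Agent.H695.Spor.Tool in
theorem hasDZ_11 : HasDZ 11 Cfsg.Spor.HN := by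
  have := Cfsg.Agent.H710.Spor.HN.finite_hn
  refine hasDZ_of_card_classes (p := 11) fac11 orderOf_ψx (c := 2) (by rw [card_cent, mul_comm]) ?_
  have h1 := card_fus_mul_card_sing (p := 11) (x := ψ xx) (by rw [← orderOf_ψx]; exact pow_orderOf_eq_one _)
  have h2 := card_conjClasses
  generalize (fus (p := 11) (ψ xx)).card = e at h1 ⊢
  generalize (sing 11 (ψ xx)).card = t at h1 ⊢
  have h3 : e ∣ 10 := ⟨t, h1.symm⟩
  have h4 : e ≤ 10 := Nat.le_of_dvd (by norm_num) h3
  interval_cases e <;> omega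

open Cfsg.Agent.H695 in
/-- No element has order 209. -/
theorem orderOf_ne (z : Cfsg.Spor.HN) : orderOf z ≠ 19 * 11 := by
  have := Cfsg.Agent.H710.Spor.HN.finite_hn
  intro hz
  have h1 : orderOf (z ^ 19) = 11 := by
    rw [orderOf_pow, hz]
    norm_num
  obtain ⟨c, i, hc, hi⟩ := Third.exists_conj_pow fac11 orderOf_ψx h1
  have hco : Nat.Coprime i 11 := Nat.Coprime.symm ((Nat.Prime.coprime_iff_not_dvd (by norm_num)).2 hi)
  obtain ⟨j, hj⟩ : ∃ j, (ψ xx ^ i) ^ j = ψ xx := exists_pow_eq_self_of_coprime (by rwa [orderOf_ψx])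
  -- `c * z * c⁻¹` centralizes `ψ xx`
  have h3 : Commute (c * z * c⁻¹) (ψ xx) := by
    have h4 : Commute (c * z * c⁻¹) (c * (z ^ 19) * c⁻¹) := by
      rw [← conj_pow]
      exact (Commute.refl _).pow_right 19
    rw [hc] at h4
    rw [← hj]
    exact h4.pow_right j
  have h5 : c * z * c⁻¹ ∈ centralizer ({ψ xx} : Set Cfsg.Spor.HN) := mem_centralizer_singleton_iff.2 h3
  have h6 := orderOf_dvd_natCard (⟨_, h5⟩ : centralizer ({ψ xx} : Set Cfsg.Spor.HN))
  have h7 : orderOf (c * z * c⁻¹) = orderOf z := (MulAut.conj c).orderOf_eq z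
  rw [Subgroup.orderOf_mk, card_cent, h7, hz] at h6
  revert h6
  norm_num

open Cfsg.Agent.H695 Cfsg.Agent.H695.Spor.Tool in
/-- **The row of `HN`.** -/
theorem row49_hn {K : Type*} [Group K] (h : Cfsg.Spor.IsoHN K) : Row49 K := by
  obtain ⟨e⟩ := h
  refine Row49.mulEquiv ?_ e.symm
  have := Cfsg.Agent.H710.Spor.HN.finite_hn
  have := Cfsg.Agent.H710.Spor.HN.isSimple_hn
  have hc := Cfsg.Agent.H710.Spor.HN.card_hn
  exact row49_of_two' (p := 19) (q := 11)
    (nonabelian_of_primes (p := 19) (q := 11) (by norm_num) (by norm_num) (by norm_num)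
      (by rw [hc]; norm_num) (by rw [hc]; norm_num)) (by norm_num) fac19 fac11
    (index_of_out (by rw [Cfsg.Agent.S2082.result])) Cfsg.Agent.H710.Spor.HN.hasDZ_19 hasDZ_11 orderOf_ne

end Cfsg.Agent.H704.Spor49.Harada
end
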